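import Mathlib

/-!
An abelian `p`-group `A` acting on a module `W` of characteristic `p` (`p ≥ 5`) and normalising a
commuting family of `p'`-operators preserving a bilinear alternating pairing: if on every invariant
isotropic subgroup `X` each element of the closure of an orbit-difference set is an orbit difference
up to a fixed point, then `A` commutes with the operators.

The isotropic subgroup is `S v`, with `S` the ring generated by the self-adjoint elements `g + g⁻¹`
and `v` a fixed point of `A`; by Dedekind's independence of characters `S v` contains a regular orbit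
of a non-trivial quotient of `A`.
-/

set_option autoImplicit false

namespace Cfsg.Agent.H35.AbOrbit

variable {W : Type*} [AddCommGroup W] [Finite W] {p : ℕ} [hp : Fact p.Prime]

theorem fixed_ne_zero {A : Type*} [Group A] [Finite A] (hA : IsPGroup p A)
    (σ : A →* AddMonoid.End W) (hpW : ∀ w : W, p • w = 0) (N : AddSubgroup W)
    (hN : ∀ (a : A), ∀ w ∈ N, σ a w ∈ N) (hne : N ≠ ⊥) :
    ∃ z ∈ N, z ≠ 0 ∧ ∀ a, σ a z = z := by
  let act : MulAction A N :=
    { smul := fun a w => ⟨σ a w, hN a w w.2⟩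
      one_smul := fun w => Subtype.ext (show σ 1 (w : W) = w by rw [map_one]; rfl)
      mul_smul := fun a b w => Subtype.ext (show σ (a * b) (w : W) = σ a (σ b (w : W)) by
        rw [map_mul]; rfl) }
  obtain ⟨w, hw, hw0⟩ := N.bot_or_exists_ne_zero.resolve_left hne
  have hdvd : p ∣ Nat.card N := by
    have h1 : addOrderOf (⟨w, hw⟩ : N) = p := by
      refine addOrderOf_eq_prime (Subtype.ext (by simpa using hpW w)) fun e => hw0 ?_
      exact congrArg Subtype.val e
    exact h1 ▸ addOrderOf_dvd_natCard _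
  have h0 : (0 : N) ∈ MulAction.fixedPoints A N := fun a => Subtype.ext (map_zero (σ a))
  obtain ⟨z, hz, hz0⟩ := hA.exists_fixed_point_of_prime_dvd_card_of_fixed_point N hdvd h0
  exact ⟨z, z.2, fun e => hz0 (Subtype.ext e.symm), fun a => congrArg Subtype.val (hz a)⟩

/-- In characteristic `p`, the ring generated by commuting elements fixed by `x ↦ x ^ p ^ N`
consists of such elements. -/
theorem closure_frobenius {E : Type*} [Ring E] [CharP E p] (s : Set E) (N : ℕ)
    (hc : ∀ x ∈ s, ∀ y ∈ s, x * y = y * x) (hs : ∀ x ∈ s, x ^ p ^ N = x) :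
    (∀ x ∈ Subring.closure s, ∀ y ∈ Subring.closure s, x * y = y * x) ∧
      ∀ x ∈ Subring.closure s, x ^ p ^ N = x := by
  have hle : Subring.closure s ≤ Subring.centralizer s :=
    Subring.closure_le.2 fun x hx => Subring.mem_centralizer_iff.2 fun y hy => hc y hy x hx
  have hle' : Subring.closure s ≤ Subring.centralizer (Subring.closure s : Set E) :=
    Subring.closure_le.2 fun x hx => Subring.mem_centralizer_iff.2 fun y hy =>
      (Subring.mem_centralizer_iff.1 (hle hy) x hx).symm
  have hcomm : ∀ x ∈ Subring.closure s, ∀ y ∈ Subring.closure s, x * y = y * x :=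
    fun x hx y hy => Subring.mem_centralizer_iff.1 (hle' hy) x hx
  refine ⟨hcomm, fun x hx => ?_⟩
  induction hx using Subring.closure_induction with
  | mem x hx => exact hs x hx
  | zero => exact zero_pow (pow_ne_zero _ hp.out.pos.ne')
  | one => exact one_pow _
  | add x y hx hy ihx ihy => rw [add_pow_char_pow_of_commute p N (hcomm x hx y hy), ihx, ihy]
  | neg x hx ih =>
    have h := add_pow_char_pow_of_commute p N (Commute.refl x).neg_right
    rw [add_neg_cancel, zero_pow (pow_ne_zero _ hp.out.pos.ne'), ih] at h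
    exact eq_neg_of_add_eq_zero_right h.symm
  | mul x y hx hy ihx ihy => rw [Commute.mul_pow (hcomm x hx y hy), ihx, ihy]

omit hp in
/-- `p ^ (q - 2) ≤ q` fails for `p ≥ 5` and `q ≥ 5`. -/
theorem lt_pow_sub_two {q : ℕ} (hq : 5 ≤ q) (hp5 : 2 ≤ p) : q * p * p < p ^ q := by
  have h2 : ∀ n, 5 ≤ n → n < 2 ^ (n - 2) := by
    intro n hn
    induction n, hn using Nat.le_induction with
    | base => norm_num
    | succ n hn ih =>
      have : n + 1 - 2 = (n - 2) + 1 := by omega
      rw [this, pow_succ]; omega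
  have h3 : q < p ^ (q - 2) := (h2 q hq).trans_le (Nat.pow_le_pow_left hp5 _)
  calc q * p * p = q * (p * p) := mul_assoc _ _ _
    _ < p ^ (q - 2) * (p * p) := mul_lt_mul_of_pos_right h3 (by positivity)
    _ = p ^ q := by rw [← pow_two, ← pow_add]; congr 1; omega

variable {L : Type*} [Group L] {A : Type*} [Group A] [Finite A]

/-- The main lemma. -/
theorem commute_of_orbit_property (hp5 : 5 ≤ p) (hpW : ∀ w : W, p • w = 0)
    (hA : IsPGroup p A) (hcA : ∀ a b : A, a * b = b * a) (σ : A →* AddMonoid.End W)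
    (τ : L →* AddMonoid.End W) (hτc : ∀ l l', τ l * τ l' = τ l' * τ l)
    {m : ℕ} (hm : m.Coprime p) (hτm : ∀ l, τ l ^ m = 1)
    (cc : A → L → L) (hcc : ∀ a l, σ a * τ l = τ (cc a l) * σ a)
    {Z : Type*} [CommGroup Z] (β : W → W → Z)
    (hadd : ∀ u u' w, β (u + u') w = β u w * β u' w) (hskew : ∀ u w, β w u = (β u w)⁻¹)
    (hinv : ∀ l u w, β (τ l u) (τ l w) = β u w)
    (hrep : ∀ X : AddSubgroup W, (∀ u ∈ X, ∀ w ∈ X, β u w = 1) →
      (∀ a, ∀ u ∈ X, σ a u ∈ X) → ∀ x ∈ X,
      ∀ w ∈ AddSubgroup.closure (Set.range fun a => σ a x - x),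
      ∃ a f, (∀ b, σ b f = f) ∧ w = σ a x - x + f) :
    ∀ a l, σ a * τ l = τ l * σ a := by
  classical
  rcases subsingleton_or_nontrivial W with hW | hW
  · exact fun a l => AddMonoidHom.ext fun w => Subsingleton.elim _ _
  have : Nontrivial (AddMonoid.End W) := ⟨1, 0, fun e => by
    obtain ⟨w, hw⟩ := exists_ne (0 : W)
    exact hw (DFunLike.congr_fun e w)⟩
  have : CharP (AddMonoid.End W) p := (CharP.charP_iff_prime_eq_zero hp.out).2
    (AddMonoidHom.ext fun w => (AddMonoid.End.natCast_apply p w).trans (hpW w))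
  -- the ring `R` generated by the image of `L`
  set N := m.totient with hN_def
  have hfrob : ∀ l, τ l ^ p ^ N = τ l := by
    intro l
    have h1 : p ^ N ≡ 1 [MOD m] := Nat.ModEq.pow_totient hm.symm
    have h2 : p ^ N = 1 + m * ((p ^ N - 1) / m) := by
      have h3 : m ∣ p ^ N - 1 := (Nat.modEq_iff_dvd' (Nat.one_le_pow _ _ hp.out.pos)).1 h1.symm
      rw [Nat.mul_div_cancel' h3]
      have := Nat.one_le_pow N p hp.out.pos
      omega
    rw [h2, pow_add, pow_one, pow_mul, hτm, one_pow, mul_one]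
  obtain ⟨hRc, hRf⟩ := closure_frobenius (p := p) (Set.range τ) N
    (by rintro _ ⟨l, rfl⟩ _ ⟨l', rfl⟩; exact hτc l l') (by rintro _ ⟨l, rfl⟩; exact hfrob l)
  set gens : Set (AddMonoid.End W) := Set.range fun l => τ l + τ l⁻¹ with hgens
  set S := Subring.closure gens with hS
  set R := Subring.closure (Set.range τ) with hR
  have hSR : S ≤ R := Subring.closure_le.2 (by
    rintro _ ⟨l, rfl⟩
    exact R.add_mem (Subring.subset_closure ⟨l, rfl⟩) (Subring.subset_closure ⟨l⁻¹, rfl⟩))
  -- the action of `A` by conjugation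
  have hσinv : ∀ a, σ a * σ a⁻¹ = 1 ∧ σ a⁻¹ * σ a = 1 := fun a =>
    ⟨by rw [← map_mul, mul_inv_cancel, map_one], by rw [← map_mul, inv_mul_cancel, map_one]⟩
  let Γ : A → (AddMonoid.End W →+* AddMonoid.End W) := fun a =>
    { toFun := fun x => σ a * x * σ a⁻¹
      map_one' := by rw [mul_one, (hσinv a).1]
      map_mul' := fun x y => by
        have : σ a * x * σ a⁻¹ * (σ a * y * σ a⁻¹) = σ a * x * (σ a⁻¹ * σ a) * y * σ a⁻¹ := by
          simp only [mul_assoc]
        rw [this, (hσinv a).2, mul_one]; simp only [mul_assoc]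
      map_zero' := by rw [mul_zero, zero_mul]
      map_add' := fun x y => by rw [mul_add, add_mul] }
  have hΓmul : ∀ a b x, Γ (a * b) x = Γ a (Γ b x) := fun a b x => by
    show σ (a * b) * x * σ (a * b)⁻¹ = σ a * (σ b * x * σ b⁻¹) * σ a⁻¹
    rw [mul_inv_rev, map_mul, map_mul]; simp only [mul_assoc]
  have hΓone : ∀ x, Γ 1 x = x := fun x => by
    show σ 1 * x * σ 1⁻¹ = x
    rw [inv_one, map_one, one_mul, mul_one]
  have hΓτ : ∀ a l, Γ a (τ l) = τ (cc a l) := fun a l => by
    show σ a * τ l * σ a⁻¹ = _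
    rw [hcc, mul_assoc, (hσinv a).1, mul_one]
  have hccinv : ∀ a l, τ (cc a l⁻¹) = τ (cc a l)⁻¹ := fun a l => by
    refine left_inv_eq_right_inv (a := τ (cc a l)) ?_ (by rw [← map_mul, mul_inv_cancel, map_one])
    rw [← hΓτ, ← hΓτ, ← map_mul, ← map_mul, inv_mul_cancel, map_one, map_one]
  have hΓS : ∀ a, ∀ x ∈ S, Γ a x ∈ S := by
    intro a x hx
    refine show x ∈ S.comap (Γ a) from Subring.closure_le.2 ?_ hx
    rintro _ ⟨l, rfl⟩
    rw [SetLike.mem_coe, Subring.mem_comap, map_add, hΓτ, hΓτ, hccinv]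
    exact Subring.subset_closure ⟨cc a l, rfl⟩
  by_contra hnot
  push Not at hnot
  obtain ⟨a₀, l₀, hne⟩ := hnot
  -- some element moves `S`
  have hmove : ∃ a, ∃ x ∈ S, Γ a x ≠ x := by
    by_contra hh
    push Not at hh
    apply hne
    letI : CommRing R :=
      { (inferInstance : Ring R) with mul_comm := fun x y => Subtype.ext (hRc _ x.2 _ y.2) }
    let g : L → R := fun l => ⟨τ l, Subring.subset_closure ⟨l, rfl⟩⟩
    have hgmul : ∀ l l', g (l * l') = g l * g l' := fun l l' => Subtype.ext (map_mul τ l l')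
    have hgone : g 1 = 1 := Subtype.ext (map_one τ)
    have hsum : ∀ a l, g (cc a l) + g (cc a l)⁻¹ = g l + g l⁻¹ := fun a l => Subtype.ext (by
      have h := hh a _ (Subring.subset_closure ⟨l, rfl⟩)
      rw [map_add, hΓτ, hΓτ, hccinv] at h
      exact h)
    suffices h : g (cc a₀ l₀) = g l₀ by
      rw [hcc]; exact congrArg (fun t => t * σ a₀) (congrArg Subtype.val h)
    rw [← sub_eq_zero]
    have hred : IsReduced R := ⟨fun x ⟨k, hk⟩ => by
      have h1 : ∀ j, x ^ (p ^ N) ^ j = x := by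
        intro j
        induction j with
        | zero => rw [pow_zero, pow_one]
        | succ j ih =>
          rw [pow_succ, pow_mul, ih]
          exact Subtype.ext (by rw [SubmonoidClass.coe_pow]; exact hRf _ x.2)
      have hN : 2 ≤ p ^ N := by
        have h2 : 0 < N := Nat.totient_pos.2 (Nat.pos_of_ne_zero fun e => by
          rw [e, Nat.coprime_zero_left] at hm
          exact hp.out.one_lt.ne' hm)
        calc 2 ≤ p ^ 1 := by rw [pow_one]; exact hp.out.two_le
          _ ≤ p ^ N := Nat.pow_le_pow_right hp.out.pos h2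
      rw [← h1 k]
      exact pow_eq_zero_of_le (le_of_lt ((k.lt_two_pow_self).trans_le (Nat.pow_le_pow_left hN k))) hk⟩
    refine IsNilpotent.eq_zero (mem_nilradical.1 ?_)
    rw [nilradical_eq_sInf, Submodule.mem_sInf]
    intro I hI
    replace hI : Ideal.IsPrime I := hI
    have : IsDomain (R ⧸ I) := Ideal.Quotient.isDomain I
    let π := Ideal.Quotient.mk I
    rw [← Ideal.Quotient.eq_zero_iff_mem, map_sub, sub_eq_zero]
    have hor : ∀ a l, π (g (cc a l)) = π (g l) ∨ π (g (cc a l)) = π (g l⁻¹) := by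
      intro a l
      have h1 : π (g (cc a l)) * π (g (cc a l)⁻¹) = 1 := by
        rw [← map_mul, ← hgmul, mul_inv_cancel, hgone, map_one]
      have h2 : π (g l) * π (g l⁻¹) = 1 := by
        rw [← map_mul, ← hgmul, mul_inv_cancel, hgone, map_one]
      have h3 : π (g (cc a l)) + π (g (cc a l)⁻¹) = π (g l) + π (g l⁻¹) := by
        rw [← map_add, ← map_add, hsum]
      have h4 : (π (g (cc a l)) - π (g l)) * (π (g (cc a l)) - π (g l⁻¹)) = 0 := by
        linear_combination π (g (cc a l)) * h3 - h1 + h2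
      rcases mul_eq_zero.1 h4 with h | h
      · exact Or.inl (sub_eq_zero.1 h)
      · exact Or.inr (sub_eq_zero.1 h)
    have hccmul : ∀ a l l', g (cc a (l * l')) = g (cc a l) * g (cc a l') := fun a l l' =>
      Subtype.ext (by
        show τ (cc a (l * l')) = τ (cc a l) * τ (cc a l')
        rw [← hΓτ, ← hΓτ, ← hΓτ, ← map_mul (Γ a), map_mul])
    have hcommg : ∀ x y, g (x * y)⁻¹ = g x⁻¹ * g y⁻¹ := fun x y => by
      rw [mul_inv_rev, hgmul, mul_comm]
    -- one sign for all of `L`
    have hsign : ∀ a, (∀ l, π (g (cc a l)) = π (g l)) ∨ ∀ l, π (g (cc a l)) = π (g l⁻¹) := by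
      intro a
      by_contra hh'
      push Not at hh'
      obtain ⟨⟨l1, h1⟩, l2, h2⟩ := hh'
      have h1' := (hor a l1).resolve_left h1
      have h2' := (hor a l2).resolve_right h2
      have u : ∀ l, IsUnit (π (g l)) := fun l => IsUnit.of_mul_eq_one (π (g l⁻¹)) (by
        rw [← map_mul, ← hgmul, mul_inv_cancel, hgone, map_one])
      rcases hor a (l1 * l2) with h | h
      · rw [hccmul, hgmul, map_mul, map_mul, h2'] at h
        exact h1 ((u l2).mul_right_cancel h)
      · rw [hccmul, hcommg, map_mul, map_mul, h1'] at h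
        exact h2 ((u l1⁻¹).mul_left_cancel h)
    -- squares fix, hence everything fixes as the order is odd
    have hsq : ∀ a l, π (g (cc a (cc a l))) = π (g l) := by
      intro a l
      rcases hsign a with h | h
      · rw [h, h]
      · have e : g (cc a l)⁻¹ = g (cc a l⁻¹) := Subtype.ext (hccinv a l).symm
        rw [h, e, h, inv_inv]
    have hc2 : ∀ a b l, g (cc (a * b) l) = g (cc a (cc b l)) := fun a b l => Subtype.ext (by
      show τ (cc (a * b) l) = τ (cc a (cc b l))
      rw [← hΓτ, ← hΓτ, ← hΓτ, hΓmul])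
    have hc1 : ∀ l, g (cc 1 l) = g l := fun l => Subtype.ext (by
      show τ (cc 1 l) = τ l
      rw [← hΓτ, hΓone])
    obtain ⟨i, hi⟩ := hA.exists_card_eq
    have hodd : Odd (orderOf a₀) :=
      (hp.out.odd_of_ne_two (by omega) |>.pow).of_dvd_nat (hi ▸ orderOf_dvd_natCard a₀)
    obtain ⟨k, hk⟩ := hodd
    have hpk : ∀ j l, π (g (cc (a₀ * (a₀ ^ 2) ^ j) l)) = π (g (cc a₀ l)) := by
      intro j
      induction j with
      | zero => intro l; rw [pow_zero, mul_one]
      | succ j ih =>
        intro l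
        rw [pow_succ, ← mul_assoc, hc2, ih, pow_two, ← hc2, ← mul_assoc, mul_assoc a₀ a₀ a₀]
        rw [hcA a₀ (a₀ * a₀), hc2, hc2, hsq]
    have h := hpk k l₀
    rw [← pow_mul, ← pow_succ', ← hk, pow_orderOf_eq_one, hc1] at h
    exact h.symm
  -- a point of `S` moved by `A`
  letI : CommRing S :=
    { (inferInstance : Ring S) with
      mul_comm := fun x y => Subtype.ext (hRc _ (hSR x.2) _ (hSR y.2)) }
  have hSp : (p : S) = 0 := Subtype.ext (by simp)
  let γ : A → (S →+* S) := fun a => ((Γ a).comp S.subtype).codRestrict S fun x => hΓS a x x.2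
  have hγ : ∀ a (x : S), ((γ a x : S) : AddMonoid.End W) = Γ a x := fun _ _ => rfl
  have hγmul : ∀ a b x, γ (a * b) x = γ a (γ b x) := fun a b x => Subtype.ext (hΓmul a b x)
  have hγone : ∀ x, γ 1 x = x := fun x => Subtype.ext (hΓone x)
  have hSred : ∀ x : S, x ^ p ^ N = x :=
    fun x => Subtype.ext (by rw [SubmonoidClass.coe_pow]; exact hRf _ (hSR x.2))
  obtain ⟨a₁, x₁, hx₁, hx₁'⟩ := hmove
  have hp' : ∃ I : Ideal S, I.IsPrime ∧ γ a₁ ⟨x₁, hx₁⟩ - ⟨x₁, hx₁⟩ ∉ I := by
    by_contra hh
    push Not at hh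
    apply hx₁'
    have h1 : γ a₁ ⟨x₁, hx₁⟩ - ⟨x₁, hx₁⟩ ∈ nilradical S := by
      rw [nilradical_eq_sInf, Submodule.mem_sInf]
      exact fun I hI => hh I hI
    obtain ⟨k, hk⟩ := mem_nilradical.1 h1
    set d := γ a₁ ⟨x₁, hx₁⟩ - ⟨x₁, hx₁⟩ with hd
    have hpow : ∀ j, d ^ (p ^ N) ^ j = d := by
      intro j
      induction j with
      | zero => rw [pow_zero, pow_one]
      | succ j ih => rw [pow_succ, pow_mul, ih, hSred]
    have hN : 2 ≤ p ^ N := by
      have h2 : 0 < N := Nat.totient_pos.2 (Nat.pos_of_ne_zero fun e => by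
        rw [e, Nat.coprime_zero_left] at hm
        exact hp.out.one_lt.ne' hm)
      calc 2 ≤ p ^ 1 := by rw [pow_one]; exact hp.out.two_le
        _ ≤ p ^ N := Nat.pow_le_pow_right hp.out.pos h2
    have hd0 : d = 0 := by
      rw [← hpow k]
      exact pow_eq_zero_of_le (le_of_lt ((k.lt_two_pow_self).trans_le (Nat.pow_le_pow_left hN k))) hk
    exact congrArg Subtype.val (sub_eq_zero.1 hd0)
  obtain ⟨I, hI, hIne⟩ := hp'
  have : IsDomain (S ⧸ I) := Ideal.Quotient.isDomain I
  set π := Ideal.Quotient.mk I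
  have : CharP (S ⧸ I) p := (CharP.charP_iff_prime_eq_zero hp.out).2 (by
    rw [← map_natCast π, hSp, map_zero])
  let B : Subgroup A :=
    { carrier := {a | ∀ x, π (γ a x) = π x}
      one_mem' := fun x => by rw [hγone]
      mul_mem' := fun {a b} ha hb x => by rw [hγmul, ha, hb]
      inv_mem' := fun {a} ha x => by rw [← ha (γ a⁻¹ x), ← hγmul, mul_inv_cancel, hγone] }
  have : B.Normal := ⟨fun b hb a => by rwa [hcA a b, mul_assoc, mul_inv_cancel, mul_one]⟩
  letI : Fintype (A ⧸ B) := Fintype.ofFinite _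
  letI : Fintype B := Fintype.ofFinite _
  -- Dedekind
  let f : A ⧸ B → (S →* (S ⧸ I)) := fun c => (π.comp (γ c.out)).toMonoidHom
  have hf : Function.Injective f := by
    intro c c' h
    rw [← Quotient.out_eq' c, ← Quotient.out_eq' c']
    refine QuotientGroup.eq.2 fun x => ?_
    have h2 : π (γ c.out (γ c.out⁻¹ x)) = π (γ c'.out (γ c.out⁻¹ x)) :=
      DFunLike.congr_fun h _
    rw [← hγmul, ← hγmul, mul_inv_cancel, hγone, ← hcA c.out⁻¹ c'.out] at h2
    exact h2.symm
  have hli := (linearIndependent_monoidHom S (S ⧸ I)).comp f hf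
  obtain ⟨e₀, he₀⟩ : ∃ e₀, ∑ c, f c e₀ ≠ 0 := by
    by_contra hh
    push Not at hh
    have := Fintype.linearIndependent_iff.1 hli (fun _ => 1) (funext fun x => by
      simpa [Finset.sum_apply] using hh x) (QuotientGroup.mk 1)
    exact one_ne_zero this
  set e := ∏ b : B, γ b e₀ with he_def
  have heB : ∀ b ∈ B, γ b e = e := by
    intro b hb
    rw [he_def, map_prod]
    simp only [← hγmul]
    exact Fintype.prod_equiv (Equiv.mulLeft (⟨b, hb⟩ : B)) _ _ fun x => rfl
  obtain ⟨jB, hjB⟩ := (hA.to_subgroup B).exists_card_eq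
  have hfe : ∀ c : A ⧸ B, f c e = f c e₀ ^ p ^ jB := by
    intro c
    show π (γ c.out e) = π (γ c.out e₀) ^ p ^ jB
    rw [he_def, map_prod, map_prod]
    simp only [← hγmul]
    rw [Finset.prod_congr rfl (g := fun _ : B => π (γ c.out e₀)) fun b _ => by
      rw [hcA, hγmul]; exact b.2 _]
    rw [Finset.prod_const, Finset.card_univ, ← Nat.card_eq_fintype_card, hjB]
  let eq' : A ⧸ B → S := fun c => γ c.out e
  have heq' : ∀ a (c : A ⧸ B), γ a (eq' c) = eq' (QuotientGroup.mk a * c) := by
    intro a c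
    obtain ⟨b, hb, hab⟩ : ∃ b ∈ B, (QuotientGroup.mk a * c).out * b = a * c.out := by
      refine ⟨(QuotientGroup.mk a * c).out⁻¹ * (a * c.out), QuotientGroup.eq.1 ?_, by group⟩
      rw [QuotientGroup.out_eq', QuotientGroup.mk_mul, QuotientGroup.out_eq']
    show γ a (γ c.out e) = γ _ e
    rw [← hγmul, ← hab, hγmul, heB b hb]
  set T := ∑ c, eq' c with hT_def
  have hT0 : T ≠ 0 := by
    intro h
    have h1 : π T = ∑ c, f c e := by rw [hT_def, map_sum]; rfl
    rw [h, map_zero] at h1
    apply he₀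
    simp only [hfe, ← sum_pow_char_pow] at h1
    exact eq_zero_of_pow_eq_zero h1.symm
  have hTfix : ∀ a, γ a T = T := fun a => by
    rw [hT_def, map_sum]
    exact Fintype.sum_equiv (Equiv.mulLeft (QuotientGroup.mk a)) _ _ fun c => heq' a c
  have hcommT : ∀ a, σ a * (T : AddMonoid.End W) = (T : AddMonoid.End W) * σ a := fun a => by
    conv_rhs => rw [← hTfix a]
    show _ = σ a * (T : AddMonoid.End W) * σ a⁻¹ * σ a
    rw [mul_assoc _ (σ a⁻¹), (hσinv a).2, mul_one]
  -- a fixed point `v` with `T v ≠ 0`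
  obtain ⟨v, hvT, hvfix⟩ : ∃ v, (T : AddMonoid.End W) v ≠ 0 ∧ ∀ a, σ a v = v := by
    have hrange : AddMonoidHom.range (T : AddMonoid.End W) ≠ ⊥ := fun h => hT0 <| Subtype.ext <|
      AddMonoidHom.ext fun w => AddSubgroup.mem_bot.1 (h ▸ AddMonoidHom.mem_range.2 ⟨w, rfl⟩)
    obtain ⟨z, ⟨u, rfl⟩, hz0, hzfix⟩ := fixed_ne_zero hA σ hpW _ (fun a w hw => by
      obtain ⟨u, rfl⟩ := hw
      exact ⟨σ a u, (DFunLike.congr_fun (hcommT a) u).symm⟩) hrange
    refine ⟨_, fun h => hz0 ?_, hzfix⟩
    have hN : 2 ≤ p ^ N := by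
      have h2 : 0 < N := Nat.totient_pos.2 (Nat.pos_of_ne_zero fun e => by
        rw [e, Nat.coprime_zero_left] at hm
        exact hp.out.one_lt.ne' hm)
      calc 2 ≤ p ^ 1 := by rw [pow_one]; exact hp.out.two_le
        _ ≤ p ^ N := Nat.pow_le_pow_right hp.out.pos h2
    obtain ⟨j, hj⟩ : ∃ j, p ^ N = j + 2 := ⟨p ^ N - 2, by omega⟩
    have hTT : (T : AddMonoid.End W) = (T : AddMonoid.End W) ^ j *
        ((T : AddMonoid.End W) * (T : AddMonoid.End W)) := by
      conv_lhs => rw [← hSred T]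
      rw [SubmonoidClass.coe_pow, hj, pow_add, pow_two]
    have h2 := DFunLike.congr_fun hTT u
    exact h2.trans (((T : AddMonoid.End W) ^ j).map_zero ▸ congrArg ((T : AddMonoid.End W) ^ j) h :)
  -- self-adjointness and isotropy of `S v`
  have hadd' : ∀ u w w', β u (w + w') = β u w * β u w' := fun u w w' => by
    rw [hskew (w + w'), hadd, mul_inv, ← hskew, ← hskew]
  have hzero : ∀ w, β 0 w = 1 := fun w => by
    have := hadd 0 0 w
    rw [add_zero] at this
    exact left_eq_mul.1 this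
  have hzero' : ∀ u, β u 0 = 1 := fun u => by rw [hskew, hzero, inv_one]
  have hneg : ∀ u w, β (-u) w = (β u w)⁻¹ := fun u w => eq_inv_of_mul_eq_one_left (by
    rw [← hadd, neg_add_cancel, hzero])
  have hneg' : ∀ u w, β u (-w) = (β u w)⁻¹ := fun u w => by
    rw [hskew (-w) u, hneg, inv_inv, hskew u w]
  have hadj : ∀ s ∈ S, ∀ u w, β ((s : AddMonoid.End W) u) w = β u (s w) := by
    intro s hs
    induction hs using Subring.closure_induction with
    | mem x hx =>
      obtain ⟨l, rfl⟩ := hx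
      have key : ∀ (l : L) u w, β (τ l u) w = β u (τ l⁻¹ w) := fun l u w => by
        conv_rhs => rw [← hinv l]
        show β (τ l u) w = β (τ l u) ((τ l * τ l⁻¹) w)
        rw [← map_mul, mul_inv_cancel, map_one]; rfl
      intro u w
      show β (τ l u + τ l⁻¹ u) w = β u (τ l w + τ l⁻¹ w)
      rw [hadd, hadd', key, key l⁻¹, inv_inv, mul_comm]
    | zero =>
      intro u w
      show β 0 w = β u 0
      rw [hzero, hzero']
    | one => intro u w; rfl
    | add x y _ _ ihx ihy =>
      intro u w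
      show β (x u + y u) w = β u (x w + y w)
      rw [hadd, hadd', ihx, ihy]
    | neg x _ ih =>
      intro u w
      show β (-(x u)) w = β u (-(x w))
      rw [hneg, hneg', ih]
    | mul x y hx hy ihx ihy =>
      intro u w
      show β (x (y u)) w = β u ((x * y) w)
      rw [ihx, ihy, hRc x (hSR hx) y (hSR hy)]; rfl
  have hp2 : ∀ u w, β u w ^ p = 1 := by
    intro u w
    have : ∀ n : ℕ, β (n • u) w = β u w ^ n := by
      intro n
      induction n with
      | zero => rw [zero_nsmul, hzero, pow_zero]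
      | succ n ih => rw [succ_nsmul, hadd, ih, pow_succ]
    rw [← this, hpW, hzero]
  have hiso : ∀ x y : S, β ((x : AddMonoid.End W) v) ((y : AddMonoid.End W) v) = 1 := by
    intro x y
    set z := β ((x : AddMonoid.End W) v) ((y : AddMonoid.End W) v)
    have hsym : β ((y : AddMonoid.End W) v) ((x : AddMonoid.End W) v) = z := by
      show _ = β _ _
      rw [hadj _ x.2, hadj _ y.2]
      show β v (((y : AddMonoid.End W) * (x : AddMonoid.End W)) v) =
        β v (((x : AddMonoid.End W) * (y : AddMonoid.End W)) v)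
      rw [hRc _ (hSR x.2) _ (hSR y.2)]
    have h2 : z ^ 2 = 1 := by
      have h3 : z = z⁻¹ := by
        conv_lhs => rw [← hsym, hskew]
      rw [pow_two]
      exact mul_eq_one_iff_eq_inv.2 h3
    exact orderOf_eq_one_iff.1 (Nat.eq_one_of_dvd_coprimes
      ((Nat.coprime_primes Nat.prime_two hp.out).2 (by omega))
      (orderOf_dvd_of_pow_eq_one h2) (orderOf_dvd_of_pow_eq_one (hp2 _ _)))
  -- the orbit
  let X : AddSubgroup W :=
    { carrier := {w | ∃ x : S, (x : AddMonoid.End W) v = w}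
      zero_mem' := ⟨0, rfl⟩
      add_mem' := by rintro _ _ ⟨x, rfl⟩ ⟨y, rfl⟩; exact ⟨x + y, rfl⟩
      neg_mem' := by rintro _ ⟨x, rfl⟩; exact ⟨-x, rfl⟩ }
  have hσS : ∀ a (x : S), σ a ((x : AddMonoid.End W) v) = ((γ a x : S) : AddMonoid.End W) v := by
    intro a x
    show _ = σ a ((x : AddMonoid.End W) (σ a⁻¹ v))
    rw [hvfix]
  let y : A ⧸ B → W := fun c => (eq' c : AddMonoid.End W) v
  have hy : ∀ a c, σ a (y c) = y (QuotientGroup.mk a * c) := fun a c => by
    show σ a ((eq' c : AddMonoid.End W) v) = _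
    rw [hσS, heq']
  letI : Module (ZMod p) W := AddCommGroup.zmodModule hpW
  let Ψ : (A ⧸ B → ZMod p) →+ W :=
    { toFun := fun g => ∑ c, g c • y c
      map_zero' := by simp
      map_add' := fun g g' => by simp only [Pi.add_apply, add_smul, Finset.sum_add_distrib] }
  have hΨ : ∀ g : A ⧸ B → ZMod p, Ψ g = ∑ c, g c • y c := fun g => rfl
  have hΨσ : ∀ a g, σ a (Ψ g) = Ψ (fun c => g ((QuotientGroup.mk a)⁻¹ * c)) := by
    intro a g
    rw [hΨ, hΨ, map_sum]
    refine Fintype.sum_equiv (Equiv.mulLeft (QuotientGroup.mk a)) _ _ fun c => ?_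
    rw [ZMod.map_smul, hy, Equiv.coe_mulLeft, inv_mul_cancel_left]
  have hconst : ∀ g : A ⧸ B → ZMod p, (∀ a c, g ((QuotientGroup.mk a : A ⧸ B)⁻¹ * c) = g c) →
      g = fun _ => g 1 := by
    intro g hg
    funext c
    obtain ⟨a, rfl⟩ := QuotientGroup.mk_surjective c
    rw [← hg a, inv_mul_cancel]
  have hinj : Function.Injective Ψ := by
    rw [← AddMonoidHom.ker_eq_bot_iff]
    by_contra hker
    let perm : A →* AddMonoid.End (A ⧸ B → ZMod p) :=
      { toFun := fun a =>
          { toFun := fun g c => g ((QuotientGroup.mk a)⁻¹ * c)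
            map_zero' := rfl
            map_add' := fun _ _ => rfl }
        map_one' := by
          refine AddMonoidHom.ext fun g => funext fun c => ?_
          show g ((QuotientGroup.mk (1 : A))⁻¹ * c) = g c
          rw [QuotientGroup.mk_one, inv_one, one_mul]
        map_mul' := fun a b => by
          refine AddMonoidHom.ext fun g => funext fun c => ?_
          show g ((QuotientGroup.mk (a * b))⁻¹ * c) =
            g ((QuotientGroup.mk b)⁻¹ * ((QuotientGroup.mk a)⁻¹ * c))
          rw [QuotientGroup.mk_mul, mul_inv_rev, mul_assoc] }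
    obtain ⟨g, hg, hg0, hgfix⟩ := fixed_ne_zero hA perm (fun g => funext fun c => by
        show p • g c = 0
        rw [nsmul_eq_mul, ZMod.natCast_self, zero_mul]) Ψ.ker
      (fun a g hg => by
        show Ψ (fun c => g ((QuotientGroup.mk a)⁻¹ * c)) = 0
        rw [← hΨσ, show Ψ g = 0 from hg, map_zero])
      hker
    have hgc := hconst g fun a c => congrFun (hgfix a) c
    have h1 : g 1 ≠ 0 := fun h => hg0 (by rw [hgc, h]; rfl)
    have h2 : Ψ g = g 1 • (T : AddMonoid.End W) v := by
      rw [hΨ, hgc, ← Finset.smul_sum, hT_def, AddSubmonoidClass.coe_finsetSum]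
      exact congrArg (fun t => g 1 • t)
        (AddMonoidHom.finsetSum_apply (fun i => (eq' i : AddMonoid.End W)) Finset.univ v).symm
    rw [show Ψ g = 0 from hg] at h2
    apply hvT
    rw [← one_smul (ZMod p) ((T : AddMonoid.End W) v), ← inv_mul_cancel₀ h1, mul_smul, ← h2,
      smul_zero]
  -- counting
  let Aug : AddSubgroup (A ⧸ B → ZMod p) :=
    { carrier := {g | ∑ c, g c = 0}
      zero_mem' := by simp
      add_mem' := fun {g g'} hg hg' => by
        show ∑ c, (g + g') c = 0
        simp only [Pi.add_apply, Finset.sum_add_distrib]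
        rw [show ∑ c, g c = 0 from hg, show ∑ c, g' c = 0 from hg', add_zero]
      neg_mem' := fun {g} hg => by
        show ∑ c, (-g) c = 0
        simp only [Pi.neg_apply, Finset.sum_neg_distrib]
        rw [show ∑ c, g c = 0 from hg, neg_zero] }
  have hx : y 1 ∈ X := ⟨eq' 1, rfl⟩
  have hclos : ∀ g ∈ Aug, Ψ g ∈ AddSubgroup.closure (Set.range fun a => σ a (y 1) - y 1) := by
    intro g hg
    have h1 : Ψ g = ∑ c, g c • (y c - y 1) := by
      rw [hΨ]
      simp only [smul_sub, Finset.sum_sub_distrib, ← Finset.sum_smul]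
      rw [show ∑ c, g c = 0 from hg, zero_smul, sub_zero]
    rw [h1]
    refine sum_mem fun c _ => ZMod.smul_mem ?_ _
    obtain ⟨a, rfl⟩ := QuotientGroup.mk_surjective c
    exact AddSubgroup.subset_closure ⟨a, by simp only [hy, mul_one]⟩
  have hsingle : ∀ c : A ⧸ B, Ψ (Pi.single c 1) = y c := fun c => by
    rw [hΨ, Finset.sum_eq_single c (fun b _ hb => by rw [Pi.single_eq_of_ne hb, zero_smul])
      (fun h => absurd (Finset.mem_univ c) h), Pi.single_eq_same, one_smul]
  have hform : ∀ g ∈ Aug, ∃ cj : (A ⧸ B) × ZMod p,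
      g = Pi.single cj.1 1 - Pi.single 1 1 + fun _ => cj.2 := by
    intro g hg
    obtain ⟨a, fx, hfx, hw⟩ := hrep X
      (by rintro _ ⟨x, rfl⟩ _ ⟨x', rfl⟩; exact hiso x x')
      (by rintro a _ ⟨x, rfl⟩; exact ⟨γ a x, (hσS a x).symm⟩) _ hx _ (hclos g hg)
    set g' := g - (Pi.single (QuotientGroup.mk a) 1 - Pi.single 1 1) with hg'
    have hg'f : Ψ g' = fx := by
      rw [hg', map_sub, map_sub, hw, hy, mul_one, hsingle, hsingle]
      abel
    have hg'c := hconst g' fun b c => by
      have := hinj (((hΨσ b g').symm.trans (hg'f ▸ hfx b)).trans hg'f.symm)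
      exact congrFun this c
    refine ⟨(QuotientGroup.mk a, g' 1), ?_⟩
    show g = Pi.single (QuotientGroup.mk a) 1 - Pi.single 1 1 + fun _ => g' 1
    rw [← hg'c, hg']
    abel
  choose F hF using hform
  have hcard : Nat.card (A ⧸ B → ZMod p) ≤ Nat.card (((A ⧸ B) × ZMod p) × ZMod p) := by
    let E : (A ⧸ B → ZMod p) → Aug := fun g =>
      ⟨g - Pi.single 1 (∑ c, g c), by
        show ∑ c, (g - Pi.single (1 : A ⧸ B) (∑ d, g d) : A ⧸ B → ZMod p) c = 0
        simp only [Pi.sub_apply, Finset.sum_sub_distrib, Finset.sum_pi_single', Finset.mem_univ,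
          if_true, sub_self]⟩
    refine Nat.card_le_card_of_injective
      (fun g => (F (E g).1 (E g).2, ∑ c, g c)) fun g g' h => ?_
    simp only [Prod.mk.injEq] at h
    have h1 : (E g).1 = (E g').1 := by rw [hF _ (E g).2, hF _ (E g').2, h.1]
    simpa [E, h.2] using h1
  rw [Nat.card_fun, Nat.card_prod, Nat.card_prod, Nat.card_zmod] at hcard
  have hq : 5 ≤ Nat.card (A ⧸ B) := by
    obtain ⟨j, hj⟩ := (hA.to_quotient B).exists_card_eq
    rcases Nat.eq_zero_or_pos j with hj0 | hj0
    · exfalso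
      rw [hj0, pow_zero] at hj
      have hB : B = ⊤ := Subgroup.index_eq_one.1 hj
      have hmem : a₁ ∈ B := hB ▸ Subgroup.mem_top a₁
      exact hIne ((Ideal.Quotient.mk_eq_mk_iff_sub_mem _ _).1 (hmem _))
    · rw [hj]
      exact hp5.trans (Nat.le_self_pow hj0.ne' p)
  exact (lt_pow_sub_two (p := p) hq (by omega)).not_ge hcard

end Cfsg.Agent.H35.AbOrbit
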